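import Mathlib
import Groth.Prelude.Def_Found
import Groth.Agent.PropsBasic.UnivHomeoFP
import Groth.Agent.Hensel1.SmoothLift
import Groth.Agent.Hensel1.Pairs
import Groth.Agent.Calg1.Completion

/-!
Artin approximation for limit preserving functors, deduced from Popescu's theorem.
-/

set_option autoImplicit false

universe u

open CategoryTheory CategoryTheory.Limits

namespace Groth.Agent.Misc12.ArtinApx

/-- The factorization form of Popescu's theorem. -/
def Popescu : Prop :=
  ∀ (R : Type u) [CommRing R] [IsNoetherianRing R] (Λ : Type u) [CommRing Λ] [IsNoetherianRing Λ]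
    [Algebra R Λ], CAlg.IsRegularHom R Λ → ∀ (A : Type u) [CommRing A] [Algebra R A]
    [Algebra.FinitePresentation R A] (f : A →ₐ[R] Λ),
    ∃ (B : Type u) (_ : CommRing B) (_ : Algebra R B), Algebra.Smooth R B ∧
      ∃ (g : A →ₐ[R] B) (h : B →ₐ[R] Λ), h.comp g = f

variable {A : Type u} [CommRing A]

/-- An algebra map as a morphism under `A`. -/
def underHom {B C : Type u} [CommRing B] [CommRing C] [Algebra A B] [Algebra A C] (f : B →ₐ[A] C) :
    Under.mk (CommRingCat.ofHom (algebraMap A B)) ⟶ Under.mk (CommRingCat.ofHom (algebraMap A C)) :=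
  Under.homMk (CommRingCat.ofHom f.toRingHom) (CommRingCat.hom_ext f.comp_algebraMap)

/-- A morphism under `A` as an algebra map. -/
def algHomOf {B C : Type u} [CommRing B] [CommRing C] [Algebra A B] [Algebra A C]
    (t : Under.mk (CommRingCat.ofHom (algebraMap A B)) ⟶
      Under.mk (CommRingCat.ofHom (algebraMap A C))) : B →ₐ[A] C :=
  { t.right.hom with
    commutes' := fun a => RingHom.congr_fun (congrArg CommRingCat.Hom.hom (Under.w t)) a }

theorem exists_fp_lift (F : Under (CommRingCat.of A) ⥤ Type u)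
    (hF : ∀ (J : Type u) [SmallCategory J] [IsFiltered J], PreservesColimitsOfShape J F)
    (B : Type u) [CommRing B] [Algebra A B]
    (ξ : F.obj (Under.mk (CommRingCat.ofHom (algebraMap A B)))) :
    ∃ (R : Type u) (_ : CommRing R) (_ : Algebra A R) (_ : Algebra.FinitePresentation A R)
      (t : R →ₐ[A] B) (x : F.obj (Under.mk (CommRingCat.ofHom (algebraMap A R)))),
      F.map (underHom t) x = ξ := by
  obtain ⟨J, _, _, D, cc, hcc, dat, hdat, ⟨e⟩⟩ :=
    Groth.PropsBasic.UH.FPData.exists_colimit (A := A) (B := B) (fun _ => True)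
      fun d => ⟨d, le_rfl, trivial⟩
  have := hF J
  obtain ⟨j, x, hx⟩ := Types.jointly_surjective _ (isColimitOfPreserves F hcc) (F.map e.inv ξ)
  have hfp : Algebra.FinitePresentation A (dat j).Ring :=
    RingHom.finitePresentation_algebraMap.1 (dat j).finitePresentation
  refine ⟨(dat j).Ring, inferInstance, inferInstance, hfp,
    algHomOf (eqToHom (hdat j).2.symm ≫ cc.ι.app j ≫ e.hom), F.map (eqToHom (hdat j).2) x, ?_⟩
  rw [show underHom (algHomOf (eqToHom (hdat j).2.symm ≫ cc.ι.app j ≫ e.hom)) =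
    eqToHom (hdat j).2.symm ≫ cc.ι.app j ≫ e.hom from
      Under.UnderMorphism.ext (CommRingCat.hom_ext (RingHom.ext fun _ => rfl))]
  simp only [← types_comp_apply (F.map _) (F.map _), ← F.map_comp, eqToHom_trans_assoc,
    eqToHom_refl, Category.id_comp]
  rw [F.map_comp, types_comp_apply]
  change F.map e.hom ((F.mapCocone cc).ι.app j x) = ξ
  rw [hx, ← types_comp_apply (F.map e.inv) (F.map e.hom), ← F.map_comp, e.inv_hom_id, F.map_id]
  rfl

/-- A class over the completion agrees, to any order, with a class over a smooth algebra. -/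
theorem exists_smooth_approx (hP : Popescu.{u}) [IsNoetherianRing A] (I : Ideal A)
    (hreg : CAlg.IsRegularHom A (AdicCompletion I A)) (F : Under (CommRingCat.of A) ⥤ Type u)
    (hF : ∀ (J : Type u) [SmallCategory J] [IsFiltered J], PreservesColimitsOfShape J F) (c : ℕ)
    (π : Under.mk (CommRingCat.ofHom (algebraMap A (AdicCompletion I A))) ⟶
      Under.mk (CommRingCat.ofHom (algebraMap A (A ⧸ I ^ c))))
    (ξ : F.obj (Under.mk (CommRingCat.ofHom (algebraMap A (AdicCompletion I A))))) :
    ∃ (B : Type u) (_ : CommRing B) (_ : Algebra A B) (_ : Algebra.Smooth A B)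
      (σ : B →ₐ[A] A ⧸ I ^ c) (x : F.obj (Under.mk (CommRingCat.ofHom (algebraMap A B)))),
      F.map (underHom σ) x = F.map π ξ := by
  have : IsNoetherianRing (AdicCompletion I A) :=
    Groth.Calg1.isNoetherianRing_adicCompletion I (IsNoetherian.noetherian I)
  obtain ⟨R, _, _, _, t, x, hx⟩ := exists_fp_lift F hF _ ξ
  obtain ⟨B, _, _, hB, g, h, hgh⟩ := hP A (AdicCompletion I A) hreg R t
  refine ⟨B, inferInstance, inferInstance, hB, (algHomOf π).comp h, F.map (underHom g) x, ?_⟩
  rw [← hx, ← types_comp_apply (F.map (underHom g)), ← types_comp_apply (F.map (underHom t)),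
    ← F.map_comp, ← F.map_comp]
  refine congrArg (fun m => F.map m x) ?_
  refine Under.UnderMorphism.ext (CommRingCat.hom_ext (RingHom.ext fun r => ?_))
  show π.right.hom (h (g r)) = π.right.hom (t r)
  rw [← hgh]; rfl

/-- Approximation over a henselian pair with regular completion map. -/
theorem approx_henselian (hP : Popescu.{u}) [IsNoetherianRing A] (I : Ideal A) [HenselianRing A I]
    (hreg : CAlg.IsRegularHom A (AdicCompletion I A)) (F : Under (CommRingCat.of A) ⥤ Type u)
    (hF : ∀ (J : Type u) [SmallCategory J] [IsFiltered J], PreservesColimitsOfShape J F)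
    (c : ℕ) (hc : 1 ≤ c)
    (π : Under.mk (CommRingCat.ofHom (algebraMap A (AdicCompletion I A))) ⟶
      Under.mk (CommRingCat.ofHom (algebraMap A (A ⧸ I ^ c))))
    (ρ : Under.mk (𝟙 (CommRingCat.of A)) ⟶ Under.mk (CommRingCat.ofHom (algebraMap A (A ⧸ I ^ c))))
    (ξ : F.obj (Under.mk (CommRingCat.ofHom (algebraMap A (AdicCompletion I A))))) :
    ∃ η : F.obj (Under.mk (𝟙 (CommRingCat.of A))), F.map ρ η = F.map π ξ := by
  obtain ⟨B, _, _, _, σ, x, hx⟩ := exists_smooth_approx hP I hreg F hF c π ξ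
  obtain ⟨E, _, _, τ, φ, _, hφ⟩ := Groth.Hensel1.exists_etale_factor (I ^ c) σ
  have hle : I ^ c ≤ I := Ideal.pow_le_self (by omega)
  obtain ⟨s, hs⟩ := Groth.Hensel1.exists_etale_lift (Groth.Hensel1.gabber_of_henselianRing (I := I))
    ((Ideal.Quotient.factorₐ A hle).comp φ)
  have hs' : (Ideal.Quotient.mkₐ A (I ^ c)).comp s = φ := by
    refine Algebra.FormallyUnramified.lift_unique
      (RingHom.ker (Ideal.Quotient.factorₐ A hle)) ?_ _ _ ?_
    · refine ⟨c, ?_⟩
      have hk : RingHom.ker (Ideal.Quotient.factorₐ A hle) = I.map (Ideal.Quotient.mk (I ^ c)) :=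
        Ideal.Quotient.factor_ker hle
      rw [hk, ← Ideal.map_pow, Ideal.zero_eq_bot, Ideal.map_quotient_self]
    · refine AlgHom.ext fun b => ?_
      refine Ideal.Quotient.eq.mpr ?_
      rw [RingHom.mem_ker, map_sub, sub_eq_zero]
      exact DFunLike.congr_fun hs b
  let w : Under.mk (CommRingCat.ofHom (algebraMap A B)) ⟶ Under.mk (𝟙 (CommRingCat.of A)) :=
    Under.homMk (CommRingCat.ofHom (s.comp τ).toRingHom)
      (CommRingCat.hom_ext (RingHom.ext fun a => (s.comp τ).commutes a))
  refine ⟨F.map w x, ?_⟩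
  rw [← hx, ← types_comp_apply (F.map w) (F.map ρ), ← F.map_comp]
  refine congrArg (fun m => F.map m x) ?_
  refine Under.UnderMorphism.ext (CommRingCat.hom_ext (RingHom.ext fun b => ?_))
  show ρ.right.hom (s (τ b)) = σ b
  rw [← hφ, ← hs']
  exact RingHom.congr_fun (congrArg CommRingCat.Hom.hom (Under.w ρ)) (s (τ b))

/-- Approximation by étale neighbourhoods. -/
theorem approx_etale (hP : Popescu.{u}) [IsNoetherianRing A] (I : Ideal A)
    (hreg : CAlg.IsRegularHom A (AdicCompletion I A)) (F : Under (CommRingCat.of A) ⥤ Type u)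
    (hF : ∀ (J : Type u) [SmallCategory J] [IsFiltered J], PreservesColimitsOfShape J F) (c : ℕ)
    (π : Under.mk (CommRingCat.ofHom (algebraMap A (AdicCompletion I A))) ⟶
      Under.mk (CommRingCat.ofHom (algebraMap A (A ⧸ I ^ c))))
    (ξ : F.obj (Under.mk (CommRingCat.ofHom (algebraMap A (AdicCompletion I A))))) :
    ∃ (E : Type u) (_ : CommRing E) (_ : Algebra A E) (_ : Algebra.Etale A E)
      (φ : E →ₐ[A] A ⧸ I ^ c) (y : F.obj (Under.mk (CommRingCat.ofHom (algebraMap A E)))),
      F.map (underHom φ) y = F.map π ξ := by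
  obtain ⟨B, _, _, _, σ, x, hx⟩ := exists_smooth_approx hP I hreg F hF c π ξ
  obtain ⟨E, _, _, τ, φ, hE, hφ⟩ := Groth.Hensel1.exists_etale_factor (I ^ c) σ
  refine ⟨E, inferInstance, inferInstance, hE, φ, F.map (underHom τ) x, ?_⟩
  rw [← hx, ← types_comp_apply (F.map (underHom τ)), ← F.map_comp]
  refine congrArg (fun m => F.map m x) ?_
  refine Under.UnderMorphism.ext (CommRingCat.hom_ext (RingHom.ext fun b => ?_))
  show φ (τ b) = σ b
  rw [← hφ]; rfl

end Groth.Agent.Misc12.ArtinApx
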