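import Mathlib
import Groth.Agent.Misc12.ArtinApx.Functor

/-!
Elements agreeing over the completion agree, for limit preserving functors over a henselian pair.
-/

set_option autoImplicit false

universe u

open CategoryTheory CategoryTheory.Limits

namespace Groth.Agent.Misc12.ArtinApx

variable {A : Type u} [CommRing A]

/-- The structure map of an algebra as a morphism from the initial object under `A`. -/
def unitHom (B : Type u) [CommRing B] [Algebra A B] :
    Under.mk (𝟙 (CommRingCat.of A)) ⟶ Under.mk (CommRingCat.ofHom (algebraMap A B)) :=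
  Under.homMk (CommRingCat.ofHom (algebraMap A B)) (Category.id_comp _)

theorem unitHom_unique {X : Under (CommRingCat.of A)}
    (f g : Under.mk (𝟙 (CommRingCat.of A)) ⟶ X) : f = g := by
  refine Under.UnderMorphism.ext ?_
  have hf := Under.w f
  have hg := Under.w g
  simp only [Under.mk_hom] at hf hg
  exact (Category.id_comp _).symm.trans ((hf.trans hg.symm).trans (Category.id_comp _))

theorem injective_completion (hP : Popescu.{u}) [IsNoetherianRing A] (I : Ideal A) [HenselianRing A I]
    (hreg : CAlg.IsRegularHom A (AdicCompletion I A)) (F : Under (CommRingCat.of A) ⥤ Type u)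
    (hF : ∀ (J : Type u) [SmallCategory J] [IsFiltered J], PreservesColimitsOfShape J F) :
    Function.Injective (F.map (unitHom (A := A) (AdicCompletion I A))) := by
  intro x y hxy
  obtain ⟨J, _, _, D, cc, hcc, dat, hdat, ⟨e⟩⟩ :=
    Groth.PropsBasic.UH.FPData.exists_colimit (A := A) (B := AdicCompletion I A) (fun _ => True)
      fun d => ⟨d, le_rfl, trivial⟩
  have := hF J
  obtain ⟨j₀⟩ := IsFiltered.nonempty (C := J)
  have hD : ∀ j, D.obj j = Under.mk (CommRingCat.ofHom (algebraMap A (dat j).Ring)) :=
    fun j => (hdat j).2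
  let a : ∀ j, Under.mk (𝟙 (CommRingCat.of A)) ⟶ D.obj j := fun j =>
    unitHom (A := A) (dat j).Ring ≫ eqToHom (hD j).symm
  have heq : (F.mapCocone cc).ι.app j₀ (F.map (a j₀) x) = (F.mapCocone cc).ι.app j₀ (F.map (a j₀) y) := by
    simp only [Functor.mapCocone_ι_app, ← types_comp_apply (F.map (a j₀)), ← F.map_comp]
    rw [unitHom_unique (a j₀ ≫ cc.ι.app j₀) (unitHom (A := A) (AdicCompletion I A) ≫ e.inv),
      F.map_comp, types_comp_apply, types_comp_apply, hxy]
  obtain ⟨k, f, g, hk⟩ := (Types.FilteredColimit.isColimit_eq_iff _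
    (isColimitOfPreserves F hcc)).mp heq
  simp only [Functor.comp_map, ← types_comp_apply (F.map (a j₀)), ← F.map_comp] at hk
  rw [unitHom_unique (a j₀ ≫ D.map g) (a j₀ ≫ D.map f)] at hk
  have : Algebra.FinitePresentation A (dat k).Ring :=
    RingHom.finitePresentation_algebraMap.1 (dat k).finitePresentation
  have : IsNoetherianRing (AdicCompletion I A) :=
    Groth.Calg1.isNoetherianRing_adicCompletion I (IsNoetherian.noetherian I)
  obtain ⟨B, _, _, _, gB, h, -⟩ := hP A (AdicCompletion I A) hreg (dat k).Ring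
    (algHomOf (eqToHom (hD k).symm ≫ cc.ι.app k ≫ e.hom))
  obtain ⟨s, -⟩ := Groth.Hensel1.exists_smooth_lift
    (Groth.Hensel1.gabber_of_henselianRing (I := I)) ((AdicCompletion.evalOneₐ I).comp h)
  let r : D.obj k ⟶ Under.mk (𝟙 (CommRingCat.of A)) := eqToHom (hD k) ≫
    Under.homMk (CommRingCat.ofHom (s.comp gB).toRingHom)
      (CommRingCat.hom_ext (RingHom.ext fun z => (s.comp gB).commutes z))
  have h2 := congrArg (F.map r) hk
  simp only [← types_comp_apply _ (F.map r), ← F.map_comp] at h2
  rw [unitHom_unique ((a j₀ ≫ D.map f) ≫ r) (𝟙 _), F.map_id] at h2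
  exact h2

end Groth.Agent.Misc12.ArtinApx
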