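import Groth.Agent.Misc12.ArtinApx.Functor
import Groth.Agent.Hensel1.NbhdPoint

/-!
Approximation by étale neighbourhoods of a pair.
-/

set_option autoImplicit false

universe u

open scoped TensorProduct

namespace Groth.Agent.Misc12.ArtinApx

variable {A : Type u} [CommRing A] {I : Ideal A} {A' : Type u} [CommRing A'] [Algebra A A']

theorem exists_sub_mem_pow (h : Groth.HensPair.IsNbhd I A') (n : ℕ) (x : A') :
    ∃ a : A, x - algebraMap A A' a ∈ (I.map (algebraMap A A')) ^ n := by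
  induction n generalizing x with
  | zero => exact ⟨0, by simp⟩
  | succ n ih =>
    obtain ⟨a, ha⟩ := ih x
    suffices ∀ y ∈ (I ^ n).map (algebraMap A A'),
        ∃ b : A, y - algebraMap A A' b ∈ (I.map (algebraMap A A')) ^ (n + 1) by
      obtain ⟨b, hb⟩ := this _ (by rwa [Ideal.map_pow])
      exact ⟨a + b, by rwa [map_add, ← sub_sub]⟩
    intro y hy
    induction hy using Submodule.span_induction with
    | mem z hz =>
      obtain ⟨c, -, rfl⟩ := hz
      exact ⟨c, by simp⟩
    | zero => exact ⟨0, by simp⟩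
    | add y z _ _ hy hz =>
      obtain ⟨b, hb⟩ := hy
      obtain ⟨c, hc⟩ := hz
      exact ⟨b + c, by rw [map_add, add_sub_add_comm]; exact add_mem hb hc⟩
    | smul r y hy' hy =>
      obtain ⟨b, hb⟩ := hy
      obtain ⟨d, hd⟩ := h.surj r
      refine ⟨d * b, ?_⟩
      have h1 : y ∈ (I.map (algebraMap A A')) ^ n := by rw [← Ideal.map_pow]; exact hy'
      have h2 : r • y - algebraMap A A' (d * b) =
          (r - algebraMap A A' d) * y + algebraMap A A' d * (y - algebraMap A A' b) := by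
        rw [smul_eq_mul, map_mul]; ring
      rw [h2]
      refine add_mem ?_ (Ideal.mul_mem_left _ _ hb)
      rw [pow_succ']
      exact Ideal.mul_mem_mul hd h1

theorem sub_mem_pow (h : Groth.HensPair.IsNbhd I A') {n : ℕ} (ρ : A' →ₐ[A] A ⧸ I ^ n) {x : A'}
    {a : A} (hx : ρ x = Ideal.Quotient.mk (I ^ n) a) :
    x - algebraMap A A' a ∈ (I.map (algebraMap A A')) ^ n := by
  obtain ⟨b, hb⟩ := exists_sub_mem_pow h n x
  have h1 : ρ (x - algebraMap A A' b) = 0 :=
    Groth.HensPair.algHom_quotient_eq_zero ρ (by rw [Ideal.map_pow]; exact hb)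
  rw [map_sub, AlgHom.commutes, hx, sub_eq_zero, Ideal.Quotient.algebraMap_eq,
    Ideal.Quotient.eq] at h1
  rw [← sub_sub_sub_cancel_right x (algebraMap A A' a) (algebraMap A A' b)]
  refine sub_mem hb ?_
  rw [← map_sub, ← Ideal.map_pow]
  exact Ideal.mem_map_of_mem _ h1

/-- A point of a smooth algebra modulo a power factors through an étale neighbourhood. -/
theorem exists_nbhd_factor {T : Type u} [CommRing T] [Algebra A T] [Algebra.Smooth A T]
    (I : Ideal A) {n : ℕ} (hn : 1 ≤ n) (σ : T →ₐ[A] A ⧸ I ^ n) :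
    ∃ (A' : Type u) (_ : CommRing A') (_ : Algebra A A') (τ : T →ₐ[A] A') (ρ : A' →ₐ[A] A ⧸ I ^ n),
      Groth.HensPair.IsNbhd I A' ∧ ρ.comp τ = σ := by
  obtain ⟨E, _, _, τ, ρ, hE, hρ⟩ := Groth.Hensel1.exists_etale_factor (I ^ n) σ
  have hle : I ^ n ≤ I := Ideal.pow_le_self (by omega)
  obtain ⟨g, σ₁, hN, hσ₁⟩ :=
    Groth.Hensel1.exists_isNbhd_of_point I ((Ideal.Quotient.factorₐ A hle).comp ρ)
  have h1 : IsUnit (Ideal.Quotient.factorₐ A hle (ρ g)) := by
    have := congrArg (fun f => f g) hσ₁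
    simp only [AlgHom.comp_apply, IsScalarTower.coe_toAlgHom'] at this
    rw [← this]
    exact (IsLocalization.Away.algebraMap_isUnit g).map σ₁
  have hu : IsUnit (ρ g) := by
    obtain ⟨b, hb⟩ := h1.exists_right_inv
    obtain ⟨b, rfl⟩ := Ideal.Quotient.mk_surjective b
    have h2 : IsUnit (ρ g * Ideal.Quotient.mk (I ^ n) b) := by
      rw [← sub_add_cancel (ρ g * Ideal.Quotient.mk (I ^ n) b) 1]
      refine IsNilpotent.isUnit_add_one ⟨n, ?_⟩
      obtain ⟨z, hz⟩ := Ideal.Quotient.mk_surjective (ρ g * Ideal.Quotient.mk (I ^ n) b - 1)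
      rw [← hz, ← map_pow, Ideal.Quotient.eq_zero_iff_mem]
      refine Ideal.pow_mem_pow (Ideal.Quotient.eq_zero_iff_mem.1 ?_) n
      have h3 : Ideal.Quotient.factorₐ A hle (Ideal.Quotient.mk (I ^ n) z) =
          Ideal.Quotient.mk I z := rfl
      rw [← h3, hz, map_sub, map_mul, map_one, sub_eq_zero]
      exact hb
    exact isUnit_of_mul_isUnit_left h2
  refine ⟨Localization.Away g, inferInstance, inferInstance,
    (IsScalarTower.toAlgHom A E _).comp τ, IsLocalization.Away.liftAlgHom (f := ρ) g hu, hN, ?_⟩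
  refine AlgHom.ext fun t => ?_
  rw [← hρ]
  simp only [AlgHom.comp_apply, IsScalarTower.coe_toAlgHom', IsLocalization.Away.liftAlgHom_apply]
  exact IsLocalization.Away.lift_eq g hu (τ t)

/-- A map of algebras into a completion is approximated, to any order, on an étale neighbourhood. -/
theorem exists_nbhd_algHom (hP : Popescu.{u}) {R B : Type u} [CommRing R] [CommRing B]
    [Algebra R A] [Algebra R B] [IsNoetherianRing A] [Algebra.FinitePresentation R B] (I : Ideal A)
    (hreg : CAlg.IsRegularHom A (AdicCompletion I A)) (f : B →ₐ[R] AdicCompletion I A)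
    {n : ℕ} (hn : 1 ≤ n) :
    ∃ (A' : Type u) (_ : CommRing A') (_ : Algebra A A') (_ : Algebra R A') (_ : IsScalarTower R A A')
      (g : B →ₐ[R] A'), Groth.HensPair.IsNbhd I A' ∧
      ∀ (b : B) (a : A), AdicCompletion.evalₐ I n (f b) = Ideal.Quotient.mk (I ^ n) a →
        g b - algebraMap A A' a ∈ (I.map (algebraMap A A')) ^ n := by
  have : IsNoetherianRing (AdicCompletion I A) :=
    Groth.Calg1.isNoetherianRing_adicCompletion I (IsNoetherian.noetherian I)
  let t : A ⊗[R] B →ₐ[A] AdicCompletion I A :=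
    Algebra.TensorProduct.lift (Algebra.ofId A _) f fun _ _ => Commute.all _ _
  obtain ⟨D, _, _, hD, g₀, h, hgh⟩ := hP A (AdicCompletion I A) hreg (A ⊗[R] B) t
  obtain ⟨A', iA', algA', τ, ρ, hN, hρ⟩ := exists_nbhd_factor I hn ((AdicCompletion.evalₐ I n).comp h)
  let : Algebra R A' := ((algebraMap A A').comp (algebraMap R A)).toAlgebra
  have : IsScalarTower R A A' := IsScalarTower.of_algebraMap_eq fun _ => rfl
  refine ⟨A', inferInstance, inferInstance, inferInstance, inferInstance,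
    ((τ.comp g₀).restrictScalars R).comp Algebra.TensorProduct.includeRight, hN, fun b a hb => ?_⟩
  refine sub_mem_pow hN ρ ?_
  rw [← hb]
  show ρ (τ (g₀ (1 ⊗ₜ b))) = _
  have h1 : ρ (τ (g₀ (1 ⊗ₜ b))) = AdicCompletion.evalₐ I n (h (g₀ (1 ⊗ₜ b))) :=
    DFunLike.congr_fun hρ _
  have h2 : h (g₀ (1 ⊗ₜ b)) = t (1 ⊗ₜ b) := DFunLike.congr_fun hgh _
  rw [h1, h2]
  simp [t]

end Groth.Agent.Misc12.ArtinApx
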